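import Cfsg.Agent.Pres.UniU3

/-! Generation of `SU(n, q)`, `n` odd, by three conjugate regular unipotent elements. -/

set_option autoImplicit false

namespace Cfsg.Agent.Pres

open Subgroup _root_.Cfsg.Agent.Classical Matrix Sum
open scoped MatrixGroups

variable {F : Type*} [Field F] {q n : ℕ}

local notation "ℋ" => hermForm _ _

theorem linInd_of_nilp {N : Matrix (Fin n) (Fin n) F} (hN : IsNilpotent N) {v : Fin n → F} {k : ℕ}
    (h : N ^ k *ᵥ v ≠ 0) : LinearIndependent F fun i : Fin (k + 1) => N ^ i.val *ᵥ v := by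
  classical
  have ex : ∃ K, N ^ K *ᵥ v = 0 := hN.imp fun K hK => by simp [hK]
  have k1 : ∀ j, Nat.find ex ≤ j → N ^ j *ᵥ v = 0 := fun j hj => by
    rw [← Nat.sub_add_cancel hj, pow_add, ← mulVec_mulVec, Nat.find_spec ex, mulVec_zero]
  have k2 : k < Nat.find ex := not_le.1 fun e => h (k1 k e)
  refine Fintype.linearIndependent_iff.2 fun c hc i => ?_
  induction i using WellFoundedLT.induction with
  | ind i ih =>
    have := congrArg (N ^ (Nat.find ex - 1 - i) *ᵥ ·) hc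
    simp only [mulVec_sum, mulVec_smul, mulVec_mulVec, ← pow_add, mulVec_zero] at this
    rw [Finset.sum_eq_single i (fun j _ hj => by
      rcases lt_or_gt_of_ne hj with e | e
      · simp [ih j e]
      · rw [k1 _ (by rw [Fin.lt_def] at e; omega), smul_zero]) (by simp)] at this
    exact (smul_eq_zero.1 this).resolve_right (Nat.find_min ex (by omega))

theorem nilp_blocks' {ι κ : Type*} [Fintype ι] [DecidableEq ι] [Fintype κ] [DecidableEq κ]
    {X : Matrix ι ι F} {B : Matrix ι κ F} {Z : Matrix κ κ F} (h1 : IsNilpotent (X - 1))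
    (h2 : IsNilpotent (Z - 1)) : IsNilpotent (fromBlocks X B 0 Z - 1) := by
  have : ∀ j : ℕ, ∃ C, fromBlocks (X - 1) B 0 (Z - 1) ^ j = fromBlocks ((X - 1) ^ j) C 0 ((Z - 1) ^ j) :=
    fun j => by
      induction j with
      | zero => exact ⟨0, by simp⟩
      | succ j ih =>
        obtain ⟨C, h⟩ := ih
        exact ⟨_, by rw [pow_succ, h, fromBlocks_multiply, pow_succ, pow_succ]; simp; rfl⟩
  obtain ⟨k, h1⟩ := h1
  obtain ⟨l, h2⟩ := h2
  obtain ⟨C, h⟩ := this (k + l)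
  rw [← fromBlocks_one, sub_eq_add_neg, fromBlocks_neg, fromBlocks_add]
  simp only [neg_zero, add_zero, ← sub_eq_add_neg]
  exact ⟨k + l + (k + l), by rw [pow_add, h]; simp [pow_add, h1, h2, fromBlocks_multiply]⟩

variable [Fintype F] [hF : Fact (Fintype.card F = q ^ 2)]

theorem real_span {P : F → Prop} (ha : ∀ s t, P s → P t → P (s + t)) {b b' : F}
    (h : b * b' ^ q - b ^ q * b' ≠ 0) (h1 : ∀ x, x ^ q = x → P (x * b))
    (h2 : ∀ x, x ^ q = x → P (x * b')) (a : F) : P a := by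
  have hD : (b * b' ^ q - b ^ q * b') ^ q = -(b * b' ^ q - b ^ q * b') := by
    simp only [sub_pow_q, mul_pow, pow_q_q]; ring
  convert ha _ _ (h1 ((a * b' ^ q - a ^ q * b') / (b * b' ^ q - b ^ q * b')) ?_)
    (h2 ((b * a ^ q - b ^ q * a) / (b * b' ^ q - b ^ q * b')) ?_) using 1
  · rw [div_mul_eq_mul_div, div_mul_eq_mul_div, ← add_div, eq_div_iff h]; ring
  all_goals rw [div_pow, hD, div_neg, ← neg_div]; simp only [sub_pow_q, mul_pow, pow_q_q]; ring

theorem real_mul {P : F → Prop} (h0 : P 0) {ζ : Fˣ} (hζ : ∀ a : Fˣ, ∃ k : ℕ, ζ ^ k = a)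
    (hm : ∀ t, P t → P (ζ * ζ ^ q * t)) {b : F} (hb : P b) (x : F) (hx : x ^ q = x) : P (x * b) := by
  obtain ⟨y, rfl⟩ := exists_norm_eq hx
  by_cases h : y = 0
  · simpa [h]
  obtain ⟨k, hk⟩ := hζ (Units.mk0 y h)
  obtain rfl : (ζ : F) ^ k = y := by simpa using congrArg Units.val hk
  clear hk hx h
  induction k with
  | zero => simpa
  | succ k ih => convert hm _ ih using 1; ring

/-- Transvections. -/
noncomputable def uT (q : ℕ) [Fact (Fintype.card F = q ^ 2)] (v : Fin n → F) (c : F) : SU n F q :=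
  uE q v 0 (-c)

/-- Short root elements. -/
noncomputable def uS (q : ℕ) [Fact (Fintype.card F = q ^ 2)] (u w : Fin n → F) (a : F) : SU n F q :=
  uE q u (a ^ q • w) 0

/-- Orthogonal isotropic vectors. -/
structure Orth (q : ℕ) (u w : Fin n → F) : Prop where
  uu : ℋ q u u = 0
  uw : ℋ q u w = 0
  wu : ℋ q w u = 0
  ww : ℋ q w w = 0

variable {u w z e : Fin n → F} {a b c : F} {g r : SU n F q} {H : Subgroup (SU n F q)}

theorem conj_uT (g : SU n F q) (u : Fin n → F) (a : F) : g * uT q u a * g⁻¹ = uT q (g • u) a := by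
  rw [uT, conj_uE, smul_zero]; rfl

theorem conj_uS (g : SU n F q) (u w : Fin n → F) (a : F) :
    g * uS q u w a * g⁻¹ = uS q (g • u) (g • w) a := by
  rw [uS, conj_uE, su_smul_smul]; rfl

theorem uT_smul (h : ℋ q u u = 0) (hc : c ^ q = -c) (x : Fin n → F) :
    uT q u c • x = x + (c * ℋ q x u) • u := by
  simp [uT, uE_smul (EOk.zero (c := -c) h (by simp [neg_pow_q, hc]))]

theorem uT_not (hc : c ^ q ≠ -c) : uT q u c = 1 :=
  uE_not fun h => hc (by have := h.3; simp [neg_pow_q] at this; linear_combination -this)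

theorem Orth.ok (h : Orth q u w) (a : F) : EOk q u (a • w) 0 :=
  ⟨h.1, by simp [h.3], by simp [h.4, zero_pow_q]⟩

theorem uS_smul (h : Orth q u w) (a : F) (x : Fin n → F) :
    uS q u w a • x = x + (a * ℋ q x w) • u - (a ^ q * ℋ q x u) • w := by
  simp [uS, uE_smul (h.ok _), pow_q_q, smul_smul, mul_comm]

omit [Fintype F] hF in
theorem Orth.symm (h : Orth q u w) : Orth q w u := ⟨h.4, h.3, h.2, h.1⟩

theorem uS_add (h : Orth q u w) (a b : F) : uS q u w (a + b) = uS q u w a * uS q u w b :=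
  su_ext fun x => by simp [mul_smul, uS_smul h, h.1, h.2, h.3, h.4, add_pow_q]; module

theorem uS_zero (u w : Fin n → F) : uS q u w 0 = 1 := by simp [uS, zero_pow_q, uE_zero]

theorem uS_neg (h : Orth q u w) (a : F) : uS q u w (-a) = (uS q u w a)⁻¹ :=
  eq_inv_of_mul_eq_one_left (by rw [← uS_add h, neg_add_cancel, uS_zero])

theorem uS_comm (h : Orth q u w) (a : F) : uS q u w a = uS q w u (-a ^ q) :=
  su_ext fun x => by simp [uS_smul h, uS_smul h.symm, neg_pow_q, pow_q_q]; module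

theorem uS_self (h : ℋ q u u = 0) (a : F) : uS q u u a = uT q u (a - a ^ q) :=
  su_ext fun x => by
    simp [uS_smul ⟨h, h, h, h⟩, uT_smul (c := a - a ^ q) h (by simp [sub_pow_q, pow_q_q])]; module

theorem uT_add (h : ℋ q u u = 0) (ha : a ^ q = -a) (hb : b ^ q = -b) :
    uT q u (a + b) = uT q u a * uT q u b := su_ext fun x => by
  simp [mul_smul, uT_smul h ha, uT_smul h hb, uT_smul (c := a + b) h (by simp [add_pow_q, *]; ring), h]
  module

theorem uT_inv (h : ℋ q u u = 0) (ha : a ^ q = -a) : (uT q u a)⁻¹ = uT q u (-a) :=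
  inv_eq_of_mul_eq_one_right (by
    rw [← uT_add h ha (by simp [neg_pow_q, ha]), add_neg_cancel, uT, neg_zero, uE_zero])

theorem uT_sum (h : Orth q u z) (ha : a ^ q = -a) (c : F) :
    uT q (u + c • z) a = uT q u a * (uT q z (c * c ^ q * a) * uS q u z (a * c ^ q)) :=
  su_ext fun x => by
    simp [mul_smul, uT_smul h.1 ha, uT_smul (u := u + c • z) (by simp [h.1, h.2, h.3, h.4]) ha,
      uT_smul (c := c * c ^ q * a) h.4 (by simp [mul_pow, pow_q_q, ha, mul_comm]), uS_smul h, h.1, h.2,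
      h.3, h.4, mul_pow, pow_q_q, ha]
    module

theorem uT_comm (h : Orth q u w) (ha : a ^ q = -a) (hb : b ^ q = -b) :
    uT q u a * uT q w b = uT q w b * uT q u a := su_ext fun x => by
  simp [mul_smul, uT_smul h.1 ha, uT_smul h.4 hb, h.2, h.3]; module

theorem uS_rule (hg : g ∈ H) (hx : r * uS q u w a ∈ H) (hr : g * r * g⁻¹ = r) (h1 : g • u = u)
    (h2 : g • w = w + c • z) (o1 : Orth q u w) (o2 : Orth q u z) (o3 : Orth q w z) :
    uS q u z (a * c ^ q) ∈ H := by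
  have := mul_mem (inv_mem hx) (mul_mem (mul_mem hg hx) (inv_mem hg))
  have e : g * (r * uS q u w a) * g⁻¹ = r * uS q u w a * uS q u z (a * c ^ q) := by
    rw [show g * (r * uS q u w a) * g⁻¹ = g * r * g⁻¹ * (g * uS q u w a * g⁻¹) by group, hr, conj_uS,
      h1, h2, mul_assoc]
    congr 1
    have o4 : Orth q u (w + c • z) := ⟨o1.1, by simp [o1.2, o2.2], by simp [o1.3, o2.3], by
      simp [o1.4, o2.4, o3.2, o3.3]⟩
    exact su_ext fun x => by
      simp [mul_smul, uS_smul o1, uS_smul o2, uS_smul o4, o1.1, o1.2, o2.3, o3.3, mul_pow, pow_q_q]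
      module
  rwa [e, inv_mul_cancel_left] at this

theorem uT_rule (hg : g ∈ H) (hx : r * uT q u a ∈ H) (hr : g * r * g⁻¹ = r) (ha : a ^ q = -a)
    (h1 : g • u = u + c • z) (o : Orth q u z) :
    uT q z (c * c ^ q * a) * uS q u z (a * c ^ q) ∈ H := by
  have := mul_mem (inv_mem hx) (mul_mem (mul_mem hg hx) (inv_mem hg))
  rwa [show g * (r * uT q u a) * g⁻¹ = g * r * g⁻¹ * (g * uT q u a * g⁻¹) by group, hr, conj_uT,
    h1, uT_sum o ha, ← mul_assoc r, inv_mul_cancel_left] at this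

theorem ZE.of_uS (o : Orth q u w) (h : uS q u w (a ^ q) ∈ H) : ZE H u (a • w) :=
  ⟨0, o.ok a, by rwa [uS, pow_q_q] at h⟩

theorem ZE.rule (hu : ℋ q u u = 0) (he : ℋ q e u = 0) (hc : c ^ q = -c) (hT : uT q u c ∈ H)
    (h : ZE H e z) : ZE H e ((c * ℋ q z u) • u) := by
  have := h.conj hT
  rw [uT_smul hu hc, uT_smul hu hc, he, mul_zero, zero_smul, add_zero] at this
  simpa using h.neg.add this

/-- A cyclic frame. -/
structure UFrame (m : ℕ) (β : F) (A : SU n F q) (v : ℤ → Fin n → F) : Prop where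
  act : ∀ j k : ℤ, A ^ j • v k = v (k + j)
  orth : ∀ i j : ℤ, i - j < m → j - i < m → ℋ q (v i) (v j) = 0
  pair : ∀ i j : ℤ, j = i + m → ℋ q (v j) (v i) = β

namespace UFrame

variable {m : ℕ} {β : F} {A : SU n F q} {v : ℤ → Fin n → F} (f : UFrame m β A v) (hA : A ∈ H)
include f

theorem pair' (i j : ℤ) (h : j = i + m) : ℋ q (v i) (v j) = β ^ q := by
  rw [← f.pair i j h, herm_conj]

omit [Fintype F] hF in
theorem o (i j : ℤ) (h : i - j < m := by omega) (h' : j - i < m := by omega) : Orth q (v i) (v j) :=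
  ⟨f.orth _ _ (by omega) (by omega), f.orth _ _ h h', f.orth _ _ h' h, f.orth _ _ (by omega) (by omega)⟩

include hA

theorem shS {i j : ℤ} (k : ℤ) {i' j' : ℤ} (h : uS q (v i) (v j) a ∈ H) (e : i' = i + k := by omega)
    (e' : j' = j + k := by omega) : uS q (v i') (v j') a ∈ H := by
  rw [e, e', ← f.act, ← f.act, ← conj_uS]
  exact mul_mem (mul_mem (zpow_mem hA k) h) (inv_mem (zpow_mem hA k))

theorem shT {i : ℤ} (h : uT q (v i) a ∈ H) (j : ℤ) : uT q (v j) a ∈ H := by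
  rw [show j = i + (j - i) by omega, ← f.act, ← conj_uT]
  exact mul_mem (mul_mem (zpow_mem hA _) h) (inv_mem (zpow_mem hA _))

theorem shTS {l i j : ℤ} (k : ℤ) {l' i' j' : ℤ} (h : uT q (v l) b * uS q (v i) (v j) a ∈ H)
    (e0 : l' = l + k := by omega) (e : i' = i + k := by omega) (e' : j' = j + k := by omega) :
    uT q (v l') b * uS q (v i') (v j') a ∈ H := by
  rw [e0, e, e', ← f.act, ← f.act, ← f.act, ← conj_uS, ← conj_uT]
  convert mul_mem (mul_mem (zpow_mem hA k) h) (inv_mem (zpow_mem hA k)) using 1; group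

variable (β0 : β ≠ 0) (hy : uS q (v (m - 1)) (v 0) β⁻¹ * A * (uS q (v (m - 1)) (v 0) β⁻¹)⁻¹ ∈ H)
  (hc : c ^ q = -c) (ht : uT q (v 0) c * A * (uT q (v 0) c)⁻¹ ∈ H) (hm : 2 ≤ m)

include ht in
theorem dT (j k : ℤ) : uT q (v j) c * (uT q (v k) c)⁻¹ ∈ H := by
  simpa only [conj_uT, f.act, zero_add] using conj_diff hA ht j k

include hy hm in
theorem dS : uS q (v (m - 1)) (v 0) β⁻¹ * uS q (v m) (v 1) (-β⁻¹) ∈ H := by
  have := conj_diff hA hy 0 1
  simp only [conj_uS, f.act, zero_add, add_zero, sub_add_cancel] at this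
  rwa [uS_neg (f.o _ _)]

omit hA in
include hm β0 in
theorem dS_smul : (∀ l : ℤ, 1 ≤ l → l < m →
    (uS q (v (m - 1)) (v 0) β⁻¹ * uS q (v m) (v 1) (-β⁻¹)) • v l = v l) ∧
    (uS q (v (m - 1)) (v 0) β⁻¹ * uS q (v m) (v 1) (-β⁻¹)) • v m = v m + (1 : F) • v (m - 1) := by
  have o1 := uS_smul (f.o (m - 1) 0)
  have o2 := uS_smul (f.o m 1)
  refine ⟨fun l h1 h2 => ?_, ?_⟩
  · simp [mul_smul, o1, o2, (f.o l 1).2, (f.o l m).2, (f.o l 0).2, (f.o l (m - 1)).2]
  · simp [mul_smul, o1, o2, (f.o m 1).2, (f.o m 1).1, f.pair 0 m (by omega), (f.o m (m - 1)).2, β0]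

include hy hm β0

theorem r1 (ha : a ^ q = -a) (h : r * uT q (v m) a ∈ H) (hr : r = 1 ∨ r = uT q (v 1) b) :
    uT q (v 0) a * uS q (v 1) (v 0) a ∈ H := by
  have := uT_rule (f.dS hA hy hm) h (by
    rcases hr with rfl | rfl
    · simp
    · rw [conj_uT, (f.dS_smul β0 hm).1 1 le_rfl (by omega)]) ha (f.dS_smul β0 hm).2 (f.o _ _)
  simpa using f.shTS hA (1 - m) this (l' := 0) (i' := 1) (j' := 0)

theorem r3 {l : ℤ} (h1 : 1 ≤ l) (h2 : l < m) (h : uS q (v l) (v m) a ∈ H) :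
    uS q (v l) (v (m - 1)) a ∈ H := by
  simpa using uS_rule (r := 1) (f.dS hA hy hm) (by simpa using h) (by simp) ((f.dS_smul β0 hm).1 l h1 h2)
    (f.dS_smul β0 hm).2 (f.o _ _) (f.o _ _) (f.o _ _)

theorem r5 {d : ℕ} (h2 : d < m) (h : uS q (v d) (v 0) a ∈ H) (e : ℕ) (he : e ≤ d) :
    uS q (v e) (v 0) a ∈ H := by
  induction he using Nat.decreasingInduction with
  | self => exact h
  | of_succ k hk ih =>
    have := f.r3 hA β0 hy hm (l := m - (k + 1)) (a := -a ^ q) (by omega) (by omega) (by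
      rw [← uS_comm (f.o _ _)]
      exact f.shS hA (m - (k + 1)) ih (by push_cast; omega))
    rw [← uS_comm (f.o _ _)] at this
    exact f.shS hA (k + 1 - m) this

include ht hc

theorem r2 (j k l : ℤ) (e : l = k + 1) : uT q (v j) c * uS q (v l) (v k) c ∈ H := by
  have h1 := f.r1 hA β0 hy hm (r := uT q (v 1) (-c)) (b := -c) hc (by
    rw [uT_comm (f.o _ _) (by simp [neg_pow_q, hc]) hc, ← uT_inv (f.o 1 1).1 hc]
    exact f.dT hA ht m 1) (.inr rfl)
  simpa [mul_assoc] using mul_mem (f.dT hA ht j k) (f.shTS hA k h1 (l' := k) (i' := l) (j' := k))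

theorem r4 {l : ℤ} (h1 : 1 ≤ l) (h2 : l < m) (h : r * uS q (v m) (v l) a ∈ H)
    (hr : r = 1 ∨ r = uT q (v 1) c) : uS q (v l) (v 1) (a ^ q * (c * β ^ q)) ∈ H := by
  have o1 := uS_smul (f.o 1 0)
  have o2 := uT_smul (f.o 1 1).1 hc
  rw [uS_comm (f.o _ _)] at h
  have := uS_rule (z := v 1) (c := c * β) (f.r2 hA β0 hy hc ht hm 1 0 1 rfl) h ?_ ?_ ?_ (f.o _ _)
    (f.o _ _) (f.o _ _)
  · simpa [mul_pow, hc] using this
  · rcases hr with rfl | rfl
    · simp
    · rw [conj_uT]; simp [mul_smul, o1, o2, (f.o 1 0).2, (f.o 1 0).1]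
  · simp [mul_smul, o1, o2, (f.o l 0).2, (f.o l 1).2]
  · simp [mul_smul, o1, o2, f.pair 0 m (by omega), (f.o m 1).2, (f.o 1 0).1]

theorem big {ζ : Fˣ} (hζ : ∀ a : Fˣ, ∃ k : ℕ, ζ ^ k = a) (h3 : 3 ≤ m) (hρ : c * β ^ q = ζ)
    (hζ' : (ζ : F) ^ q ≠ ζ) (a : F) : uS q (v 1) (v 0) a ∈ H := by
  have k : ∀ {r a}, r * uS q (v m) (v (m - 1)) a ∈ H → (r = 1 ∨ r = uT q (v 1) c) →
      uS q (v 1) (v 0) (a ^ q * ζ) ∈ H := fun h hr => hρ ▸ f.r5 hA β0 hy hm (d := m - 2) (by omega)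
    (f.shS hA (-1) (f.r4 hA β0 hy hc ht hm (by omega) (by omega) h hr)) 1 (by omega)
  have k' : ∀ a, uS q (v 1) (v 0) a ∈ H → uS q (v 1) (v 0) (a ^ q * ζ) ∈ H := fun a h =>
    k (r := 1) (by simpa using f.shS hA (m - 1) h) (.inl rfl)
  have k1 := k (f.r2 hA β0 hy hc ht hm 1 _ _ (by omega)) (.inr rfl)
  have k2 := fun b => real_mul (q := q) (P := (uS q (v 1) (v 0) · ∈ H)) (by simp [uS_zero]) hζ
    (fun t h => by convert k' _ (k' _ h) using 2; rw [mul_pow, pow_q_q]; ring) (b := b)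
  have c0 : c ≠ 0 := fun h => ζ.ne_zero (by rw [← hρ, h, zero_mul])
  refine real_span (P := (uS q (v 1) (v 0) · ∈ H))
    (fun s t x y => uS_add (f.o 1 0) s t ▸ mul_mem x y) ?_ (k2 _ k1) (k2 _ (k' _ k1)) a
  simp only [mul_pow, pow_q_q, hc, neg_pow_q, neg_neg]
  convert mul_ne_zero (mul_ne_zero (pow_ne_zero 2 c0) (pow_ne_zero (q + 1) ζ.ne_zero))
    (sub_ne_zero.2 hζ'.symm) using 1
  ring

theorem small {ζ : Fˣ} (hζ : ∀ a : Fˣ, ∃ k : ℕ, ζ ^ k = a) (h2 : m = 2)
    (hρ : c * (β - β ^ q) = ζ * ζ ^ q) (hβ : β + β ^ q ≠ 0) (a : F) : uS q (v 1) (v 0) a ∈ H := by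
  have k : ∀ {r a}, r * uS q (v m) (v 1) a ∈ H → (r = 1 ∨ r = uT q (v 1) c) → a ^ q = -a →
      uT q (v 1) (ζ * ζ ^ q * a) ∈ H := fun {r a} h hr ha => by
    have := f.r4 hA β0 hy hc ht hm (by omega) (by omega) h hr
    rw [uS_self (f.o 1 1).1] at this
    convert this using 2
    simp only [mul_pow, pow_q_q]; simp only [hc, ha, ← hρ]; ring
  have k0 : ∀ a, a ^ q = -a → uT q (v 1) a ∈ H → uS q (v 1) (v 0) a ∈ H := fun a ha h => by
    have := f.r1 hA β0 hy hm (r := 1) (b := 0) ha (by simpa using f.shT hA h m) (.inl rfl)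
    rwa [mul_mem_cancel_left (f.shT hA h 0)] at this
  have c0 : c ≠ 0 := fun h => by simp [h] at hρ
  have k1 := real_mul (q := q) (P := fun a => uT q (v 1) (a * c) ∈ H) (by simp [uT, uE_zero]) hζ
    (fun t h => by
      by_cases ht : (t * c) ^ q = -(t * c)
      · exact mul_assoc _ t c ▸ k (r := 1) (by simpa using f.shS hA 1 (k0 _ ht h)) (.inl rfl) ht
      · rw [uT_not fun e => ht (mul_left_cancel₀ (a := (ζ : F) * ζ ^ q) (by simp) (by
          simp only [mul_pow, pow_q_q] at e ⊢; linear_combination e))]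
        exact one_mem H) (k (f.r2 hA β0 hy hc ht hm 1 _ _ (by omega)) (.inr rfl) hc)
  have k2 : ∀ x, x ^ q = x → uT q (v 1) (x * c) ∈ H := fun x hx => by
    convert k1 (x / (ζ * ζ ^ q)) (by simp [div_pow, mul_pow, pow_q_q, hx, mul_comm]) using 3
    field_simp
  have k3 : ∀ x, x ^ q = x → uS q (v 1) (v 0) (x * c) ∈ H := fun x hx =>
    k0 _ (by simp [mul_pow, hx, hc]) (k2 x hx)
  refine real_span (P := (uS q (v 1) (v 0) · ∈ H)) (b' := c ^ 2 * β ^ q)
    (fun s t x y => uS_add (f.o 1 0) s t ▸ mul_mem x y) ?_ k3 (fun x hx => ?_) a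
  · simp only [mul_pow, pow_q_q, hc, pow_two]
    convert mul_ne_zero (pow_ne_zero 3 c0) hβ using 1; ring
  have := (ZE.rule (f.o m m).1 (f.o 1 m).2 hc (f.shT hA (one_mul c ▸ k2 1 (one_pow q)) m)
    (ZE.of_uS (a := -(x * c)) (f.o 1 0) (by simpa [neg_pow_q, mul_pow, hx, hc] using k3 x hx))).mem
    (fun d => by
      by_cases hd : (-d) ^ q = d
      · simpa [uT, c0] using k2 (-d / c) (by rw [div_pow, hd, hc, div_neg, neg_div])
      · have := uT_not (q := q) (u := v 1) (c := -d) (by simpa)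
        rw [uT, neg_neg] at this
        exact this ▸ one_mem H) 0
  refine f.shS hA (-1) (i := m) (j := 1) ?_
  rw [uS_comm (f.o _ _), uS]
  convert this using 3
  simp [neg_pow_q, pow_q_q, f.pair' 0 m (by omega)]; ring

omit ht hc in
theorem top (hn : n = 2 * m + 1) (hN : IsNilpotent (A.1.1 - 1)) (h0 : (A.1.1 - 1) ^ (2 * m) *ᵥ v (-m) ≠ 0)
    (h1 : ∀ a, uS q (v 1) (v 0) a ∈ H) : H = ⊤ := by
  have β0' : β ^ q ≠ 0 := pow_ne_zero _ β0
  have hT : ∀ i a, uT q (v i) a ∈ H := fun i a => by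
    by_cases ha : a ^ q = -a
    swap; · exact uT_not ha ▸ one_mem H
    obtain ⟨b, rfl⟩ := exists_sub_pow_eq (q := q) (c := a) (by simp [ha])
    exact f.shT hA (uS_self (f.o 0 0).1 b ▸ f.r5 hA β0 hy hm (d := 1) hm (h1 b) 0 (by omega)) i
  obtain ⟨ε, ε0, hε⟩ := exists_trace_zero F q
  have hε : ε ^ q = -ε := by linear_combination hε
  have h2 : ∀ a, uS q (v (m - 1 : ℕ)) (v 0) a ∈ H := fun a => by
    have := uT_rule (r := 1) (c := a / ε) (z := v (m - 1))
      (f.shS hA (m - 1) (h1 (-(a / ε / β ^ q) ^ q)) (i' := m) (j' := m - 1))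
      (one_mul (uT q (v 0) ε) ▸ hT 0 ε) (by simp) hε (by
        simp [uS_smul (f.o m (m - 1)), (f.o 0 (m - 1)).2, f.pair' 0 m (by omega), neg_pow_q, pow_q_q,
          β0']) (f.o _ _)
    rw [mul_mem_cancel_left (hT _ _), uS_comm (f.o _ _)] at this
    convert f.shS hA 0 this (i' := (m - 1 : ℕ)) (j' := 0) using 2
    simp [mul_pow, pow_q_q, hε]; field_simp
  have h3 : ∀ i j : ℤ, i - j < m → j - i < m → ∀ a, uS q (v i) (v j) a ∈ H := fun i j h h' a => by
    have k : ∀ i j : ℤ, j ≤ i → i - j < m → ∀ a, uS q (v i) (v j) a ∈ H := fun i j h h' a =>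
      f.shS hA j (f.r5 hA β0 hy hm (by omega) (h2 a) (i - j).toNat (by omega))
    rcases le_total j i with e | e
    · exact k i j e h a
    · rw [uS_comm (f.o _ _)]; exact k j i e h' _
  let S : Submodule F (Fin n → F) := .span F (v '' Set.Ioo (-m) m)
  have hS : ∀ z ∈ S, ℋ q z (v 0) = 0 ∧ ∀ a : F, ZE H (v 0) (a • z) := fun z hz => by
    induction hz using Submodule.span_induction with
    | mem _ h =>
      obtain ⟨i, ⟨h, h'⟩, rfl⟩ := h
      exact ⟨(f.o i 0).2, fun a => .of_uS (f.o _ _) (h3 _ _ (by omega) (by omega) _)⟩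
    | zero => simpa using ZE.zero (f.o 0 0).1
    | add x y _ _ a b => exact ⟨by simp [a.1, b.1], fun c => smul_add c x y ▸ (a.2 c).add (b.2 c)⟩
    | smul c x _ a => exact ⟨by simp [a.1], fun d => smul_smul d c x ▸ a.2 _⟩
  have mS : ∀ i : ℤ, -m < i → i < m → v i ∈ S := fun i h h' => Submodule.subset_span ⟨i, ⟨h, h'⟩, rfl⟩
  have sp : ⊤ ≤ Submodule.span F (Set.range fun i : Fin (2 * m + 1) => v (i.val - m)) := by
    rw [← (linInd_of_nilp hN h0).span_eq_top_of_card_eq_finrank' (by simp [hn]), Submodule.span_le]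
    rintro _ ⟨i, rfl⟩
    have : ∀ j i : ℕ, i + j ≤ 2 * m → (A.1.1 - 1) ^ j *ᵥ v (i - m) ∈
        Submodule.span F (Set.range fun i : Fin (2 * m + 1) => v (i.val - m)) := fun j => by
      induction j with
      | zero => exact fun i hi => Submodule.subset_span ⟨⟨i, by omega⟩, by simp⟩
      | succ j ih =>
        intro i hi
        have := f.act 1 (i - m)
        rw [zpow_one, su_smul_def, show (i : ℤ) - m + 1 = (i + 1 : ℕ) - m by push_cast; ring] at this
        rw [pow_succ, ← mulVec_mulVec, sub_mulVec, one_mulVec, this, mulVec_sub]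
        exact sub_mem (ih _ (by omega)) (ih _ (by omega))
    simpa using this i 0 (by omega)
  have sp1 : ∀ x, ∃ a b : F, x - a • v m - b • v (-m) ∈ S := fun x => by
    induction sp (Submodule.mem_top (x := x)) using Submodule.span_induction with
    | mem _ h =>
      obtain ⟨i, rfl⟩ := h
      by_cases e : i.val = 0
      · exact ⟨0, 1, by simp [e]⟩
      by_cases e' : i.val = 2 * m
      · exact ⟨1, 0, by simp [e', two_mul]⟩
      exact ⟨0, 0, by simpa using mS _ (by omega) (by omega)⟩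
    | zero => exact ⟨0, 0, by simp⟩
    | add x y _ _ a b =>
      obtain ⟨a, a', h⟩ := a
      obtain ⟨b, b', h'⟩ := b
      exact ⟨a + b, a' + b', by convert add_mem h h' using 1; module⟩
    | smul c x _ a =>
      obtain ⟨a, a', h⟩ := a
      exact ⟨c * a, c * a', by convert S.smul_mem c h using 1; module⟩
  have sp2 : ∀ a : F, v (-m) - a • v m ∉ S := fun a h => by
    refine (linearIndependent_of_top_le_span_of_card_eq_finrank sp (by simp [hn])).notMem_span_image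
      (s := {0}ᶜ) (x := 0) (by simp) ?_
    rw [← sub_add_cancel (v _) (a • v m)]
    refine add_mem (Submodule.span_mono ?_ (by simpa using h)) (Submodule.smul_mem _ _
      (Submodule.subset_span ⟨⟨2 * m, by omega⟩, by simp; omega, by simp [two_mul]⟩))
    rintro _ ⟨i, ⟨h, h'⟩, rfl⟩
    exact ⟨⟨(i + m).toNat, by omega⟩, by simp [Fin.ext_iff]; omega, by simp; congr 1; omega⟩
  obtain ⟨t, ht⟩ : ∃ t : F, ℋ q (v (-m) + t • v (1 - m)) (v 1) ≠ 0 := by
    by_cases e : ℋ q (v (-m)) (v 1) = 0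
    exacts [⟨1, by simp [e, f.pair' (1 - m) 1 (by omega), β0']⟩, ⟨0, by simpa⟩]
  obtain ⟨u, u1, u2, u3, x, u4⟩ : ∃ u, ℋ q u u = 0 ∧ ℋ q u (v 0) = 0 ∧ (∀ d, uT q u d ∈ H) ∧
      ∃ x : F, u - v (-m) - x • v m ∈ S := by
    have o := f.o (-m) (1 - m)
    refine ⟨uS q (v m) (v 1) (-β ^ q / β / ℋ q (v (-m) + t • v (1 - m)) (v 1)) •
      (v (-m) + t • v (1 - m)), by simp [o.1, o.2, o.3, o.4], ?_, fun d => ?_, -β ^ q / β, ?_⟩
    · rw [uS_smul (f.o _ _), div_mul_cancel₀ _ ht]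
      simp [(f.o 1 0).2, (f.o (1 - m) 0).2, f.pair' (-m) 0 (by omega), f.pair 0 m (by omega), β0]
    · rw [← conj_uT]
      refine mul_mem (mul_mem (h3 _ _ (by omega) (by omega) _) ?_) (inv_mem (h3 _ _ (by omega) (by omega) _))
      by_cases hd : d ^ q = -d
      · exact uT_sum o hd t ▸ mul_mem (hT _ _) (mul_mem (hT _ _) (h3 _ _ (by omega) (by omega) _))
      · exact uT_not hd ▸ one_mem H
    · rw [uS_smul (f.o _ _), div_mul_cancel₀ _ ht]
      convert sub_mem (S.smul_mem t (mS (1 - m) (by omega) (by omega)))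
        (S.smul_mem _ (mS 1 (by omega) (by omega))) using 1
      abel_nf; rfl
  have dec : ∀ z, ℋ q z (v 0) = 0 → ∃ b : F, z - b • u ∈ S := fun z hz => by
    obtain ⟨a, b, h⟩ := sp1 z
    have k : z - b • u - (a - b * x) • v m ∈ S := by
      convert sub_mem h (S.smul_mem b u4) using 1; module
    have : a - b * x = 0 := by simpa [hz, u2, f.pair 0 m (by omega), β0] using (hS _ k).1
    exact ⟨b, by simpa [this] using k⟩
  have e0 : v 0 ≠ 0 := fun h => β0 (by rw [← f.pair 0 m (by omega), h, herm_zero_right])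
  obtain ⟨w, hw, w1⟩ : ∃ w ∈ S, ℋ q w u ≠ 0 := by
    by_contra! k
    have : u - (ℋ q (v m) u / β) ^ q • v 0 = 0 := eq_zero_of_herm_eq_zero (q := q) fun y => by
      obtain ⟨b, hb⟩ := dec (y - (ℋ q y (v 0) / β) • v m) (by simp [f.pair 0 m (by omega), β0])
      have := k _ hb
      rw [herm_eq_zero_comm]
      simp [u1, pow_q_q] at this ⊢
      rw [sub_eq_zero.1 this]; ring
    refine sp2 (-x) ?_
    convert sub_mem (S.smul_mem ((ℋ q (v m) u / β) ^ q) (mS 0 (by omega) (by omega))) u4 using 1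
    rw [← sub_eq_zero.1 this]; module
  refine su_top (.inr (by omega)) e0 (f.o 0 0).1 (.of_ZE (by omega) e0 (f.o 0 0).1 fun z hz => ?_)
    (zpow_mem hA m) (by rw [f.act, f.pair 0 _ rfl]; exact β0)
  obtain ⟨b, hb⟩ := dec z hz
  have := ((hS _ hb).2 1).add (ZE.rule u1 (herm_eq_zero_comm.1 u2) hε (u3 ε)
    ((hS w hw).2 (b / ε / ℋ q w u)))
  simpa [w1, mul_div_cancel₀ _ ε0] using this

omit hA hy β0 ht hc in
theorem reg (hβ : β + β ^ q ≠ 0) : (A.1.1 - 1) ^ (2 * m) *ᵥ v (-m) ≠ 0 := fun h => by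
  have key : ∀ j i : ℕ, i + j ≤ 2 * m → ℋ q ((A.1.1 - 1) ^ j *ᵥ v (i - m)) (v 0) =
      (if i + j = 2 * m then β else 0) + if i = 0 then (-1) ^ j * β ^ q else 0 := fun j => by
    induction j with
    | zero =>
      intro i hi
      rw [pow_zero, one_mulVec]
      split_ifs with e e'
      · omega
      · simp [f.pair 0 (i - m) (by omega)]
      · simp [f.pair' (i - m) 0 (by omega)]
      · simp [(f.o (i - m) 0).2]
    | succ j ih =>
      intro i hi
      have := f.act 1 (i - m)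
      rw [zpow_one, su_smul_def, show (i : ℤ) - m + 1 = (i + 1 : ℕ) - m by push_cast; ring] at this
      rw [pow_succ, ← mulVec_mulVec, sub_mulVec, one_mulVec, this, mulVec_sub, herm_sub_left,
        ih _ (by omega), ih _ (by omega), if_neg (show i + j ≠ _ by omega), if_neg (Nat.succ_ne_zero i)]
      simp only [add_right_comm i 1 j, add_assoc]
      split_ifs <;> ring
  have := key (2 * m) 0 (by omega)
  simp [h] at this
  exact hβ this.symm

end UFrame

theorem exists_uframe (k : ℕ) {β : F} (hβ : β + β ^ q ≠ 0) : ∃ (A : SU (2 * (k + 1) + 1) F q)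
    (v : ℤ → _ → F), UFrame (k + 1) β A v ∧ IsNilpotent (A.1.1 - 1) := by
  let μ : F := -(-1) ^ k * β
  have sg : ((-1 : F) ^ k) ^ q = (-1) ^ k := by rw [← pow_mul, mul_comm, pow_mul, neg_pow_q, one_pow]
  have hτ : (μ + μ ^ q) ^ q = μ + μ ^ q := by rw [add_pow_q, pow_q_q, add_comm]
  let G : Matrix (Fin (k + 1) ⊕ Unit ⊕ Fin (k + 1)) (Fin (k + 1) ⊕ Unit ⊕ Fin (k + 1)) F :=
    fromBlocks 0 (fromCols 0 1) (fromRows 0 1) (fromBlocks (diagonal fun _ => μ + μ ^ q) 0 0 0)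
  have hG : ∀ a b w, G *ᵥ Sum.elim a (Sum.elim b w) =
      Sum.elim w (Sum.elim (fun _ => (μ + μ ^ q) * b ()) a) := fun a b w => by
    ext (i | i | i) <;> simp [G, fromBlocks_mulVec, mulVec_diagonal]
  have ex : ∀ x : Fin (k + 1) ⊕ Unit ⊕ Fin (k + 1) → F, ∃ a b w, x = Sum.elim a (Sum.elim b w) :=
    fun x => ⟨x ∘ inl, x ∘ inr ∘ inl, x ∘ inr ∘ inr, by ext (i | i | i) <;> rfl⟩
  obtain ⟨E, h1, h2⟩ := exists_model (F := F) (q := q) (n := 2 * (k + 1) + 1) (by simp; omega) G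
    (by rintro (i | i | i) (j | j | j) <;> simp [G, zero_pow_q, one_apply, hτ, eq_comm] <;>
      split_ifs <;> simp [zero_pow_q]) (fun h => by
      obtain ⟨x, h0, h⟩ := exists_mulVec_eq_zero_iff.2 h
      obtain ⟨a, b, w, rfl⟩ := ex x
      rw [hG] at h
      have : μ + μ ^ q ≠ 0 := by
        simpa [μ, mul_pow, neg_pow_q, sg, ← neg_add, ← mul_add] using hβ
      refine h0 (funext ?_)
      rintro (i | i | i)
      exacts [congrFun h (inr (inr i)), by simpa [this] using congrFun h (inr (inl i)),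
        congrFun h (inl i)])
  have cq : ∀ (a : Fin (k + 1) → F) (b : Unit → F) (w : Fin (k + 1) → F),
      (fun j => Sum.elim a (Sum.elim b w) j ^ q) =
        Sum.elim (fun j => a j ^ q) (Sum.elim (fun j => b j ^ q) fun j => w j ^ q) := fun a b w => by
    ext (i | i | i) <;> rfl
  let g' := (SpecialLinearGroup.map (Geom.frobq hF.out) (jA F k)⁻¹).1ᵀ
  let M : Matrix (Fin (k + 1) ⊕ Unit ⊕ Fin (k + 1)) (Fin (k + 1) ⊕ Unit ⊕ Fin (k + 1)) F :=
    fromBlocks g' (g' * fromCols (single (Fin.last k) () (μ + μ ^ q))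
      (single (Fin.last k) (Fin.last k) (-μ))) 0 (fromBlocks 1 (single () (Fin.last k) (-1)) 0 (jA F k).1)
  have hM : ∀ a b w, M *ᵥ Sum.elim a (Sum.elim b w) = Sum.elim (g' *ᵥ (a + Pi.single (Fin.last k)
      ((μ + μ ^ q) * b () - μ * w (Fin.last k)))) (Sum.elim (fun _ => b () - w (Fin.last k))
        ((jA F k).1 *ᵥ w)) := fun a b w => by
    simp only [M, fromBlocks_mulVec, ← mulVec_mulVec, ← mulVec_add]
    congr 1
    · congr 2
      ext i; simp [single_mulVec, Pi.single_apply, Function.update_apply]; split_ifs <;> ring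
    · ext (i | i) <;> simp [single_mulVec, sub_eq_add_neg]
  have hg : ∀ a w : Fin (k + 1) → F, ((g' *ᵥ a) ⬝ᵥ fun j => ((jA F k).1 *ᵥ w) j ^ q) =
      a ⬝ᵥ fun j => w j ^ q := fun a w => by
    have : (fun j => ((jA F k).1 *ᵥ w) j ^ q) =
        (SpecialLinearGroup.map (Geom.frobq hF.out) (jA F k)).1 *ᵥ fun j => w j ^ q := by
      ext j; simp [mulVec, dotProduct, sum_pow_q, mul_pow]
    have e : (SpecialLinearGroup.map (Geom.frobq hF.out) (jA F k)⁻¹).1 *
        (SpecialLinearGroup.map (Geom.frobq hF.out) (jA F k)).1 = 1 :=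
      congrArg Subtype.val ((map_mul (SpecialLinearGroup.map (Geom.frobq hF.out)) (jA F k)⁻¹
        (jA F k)).symm.trans (by rw [inv_mul_cancel, map_one]))
    rw [this, mulVec_transpose, ← dotProduct_mulVec, mulVec_mulVec, e, one_mulVec]
  have hg' : ∀ a w : Fin (k + 1) → F, (((jA F k).1 *ᵥ w) ⬝ᵥ fun j => (g' *ᵥ a) j ^ q) =
      w ⬝ᵥ fun j => a j ^ q := fun a w => by
    simpa [dotProduct, sum_pow_q, mul_pow, pow_q_q, mul_comm] using congrArg (· ^ q) (hg a w)
  obtain ⟨A, hA⟩ := h2 M (by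
    simp only [M, g', det_fromBlocks_zero₂₁, det_transpose, det_one, one_mul, (jA F k).2, mul_one]
    exact (SpecialLinearGroup.map _ _).2)
    fun x y => by
      obtain ⟨a, b, w, rfl⟩ := ex x
      obtain ⟨a', b', w', rfl⟩ := ex y
      simp only [hM, cq, hG, sumElim_dotProduct_sumElim, hg, hg']
      simp [dotProduct, add_pow_q, sub_pow_q, mul_pow, pow_q_q, Pi.single_apply, add_mul, mul_add,
        Finset.sum_add_distrib, apply_ite (· ^ q), zero_pow_q]
      ring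
  let v : ℤ → _ → F := fun i => A ^ i • E (Sum.elim 0 (Sum.elim 0 (Pi.single 0 1)))
  have va : ∀ j k : ℤ, A ^ j • v k = v (k + j) := fun j k => by
    simp only [v, ← mul_smul, ← _root_.zpow_add, add_comm]
  have jl : ∀ i : ℕ, ((jA F k ^ i).1 *ᵥ Pi.single 0 1) (Fin.last k) = i.choose k := fun i => by
    rw [mulVec_single_one, col_apply, jA_pow, Fin.val_last]
  have v1 : ∀ i ≤ k, v i = E (Sum.elim 0 (Sum.elim 0 ((jA F k ^ i).1 *ᵥ Pi.single 0 1))) := fun i hi => by
    induction i with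
    | zero =>
      simp only [v, Nat.cast_zero, _root_.zpow_zero, one_smul, pow_zero]
      erw [one_mulVec]
    | succ i ih =>
      rw [Nat.cast_succ, ← va, zpow_one, ih (by omega), hA, hM, mulVec_mulVec, pow_succ', jl i,
        Nat.choose_eq_zero_of_lt hi]
      simp
      rfl
  have v0 : v 0 = E (Sum.elim 0 (Sum.elim 0 (Pi.single 0 1))) := by simp [v]
  have vs : ∀ i j : ℤ, ℋ q (v j) (v i) = ℋ q (v (j - i)) (v 0) := fun i j => by
    rw [← herm_su_smul (A ^ i) _ (v 0), va, va, zero_add, sub_add_cancel]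
  have vo : ∀ i j : ℤ, i ≤ j → j - i < (k + 1 : ℕ) → ℋ q (v j) (v i) = 0 := fun i j h h' => by
    rw [vs, show j - i = (j - i).toNat by omega, v1 _ (by omega), v0, h1, cq, hG]
    simp [sumElim_dotProduct_sumElim, zero_pow_q, dotProduct]
  refine ⟨A, v, ⟨va, fun i j h h' => ?_, fun i j h => ?_⟩, ?_⟩
  · rcases le_total i j with e | e
    exacts [herm_eq_zero_comm.1 (vo i j e h'), vo j i e h]
  · have := sk_neg (F := F) (n := k)
    rw [sk, _root_.zpow_neg_one] at this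
    replace : g' 0 (Fin.last k) = (-1) ^ k := (congrArg (· ^ q) this).trans sg
    rw [vs, show j - i = k + 1 by omega, ← va, zpow_one, v1 k le_rfl, hA, hM, v0, h1, cq, hG, jl]
    simp [sumElim_dotProduct_sumElim, zero_pow_q, dotProduct, jA_pow, Pi.single_apply,
      apply_ite (· ^ q), this, sg, μ]
    rw [← mul_assoc, ← mul_pow]; simp
  obtain ⟨N, hN⟩ : IsNilpotent (M - 1) := nilp_blocks' (by
    obtain ⟨N, hN⟩ := (jA_reg (F := F) (n := k)).1
    have h1 : ((jA F k)⁻¹).1 * (jA F k).1 = 1 := congrArg Subtype.val (inv_mul_cancel (jA F k))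
    have h2 : (jA F k).1 * ((jA F k)⁻¹).1 = 1 := congrArg Subtype.val (mul_inv_cancel (jA F k))
    have : ((jA F k)⁻¹).1 - 1 = -((jA F k)⁻¹).1 * ((jA F k).1 - 1) := by
      rw [mul_sub, neg_mul, h1]; simp [neg_add_eq_sub]
    have e : (((jA F k)⁻¹).1 - 1) ^ N = 0 := by
      rw [this, Commute.mul_pow, hN, mul_zero]
      exact (Commute.sub_right (h1.trans h2.symm) (Commute.one_right _)).neg_left
    refine ⟨N, ?_⟩
    have := congrArg (fun X => ((Geom.frobq hF.out).mapMatrix X)ᵀ) e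
    simp only [map_pow, map_sub, map_one, map_zero, transpose_pow, transpose_sub, transpose_one,
      transpose_zero] at this
    exact this) (nilp_blocks' (by simp) jA_reg.1)
  have : ∀ j x, (A.1.1 - 1) ^ j *ᵥ E x = E ((M - 1) ^ j *ᵥ x) := fun j => by
    induction j with
    | zero => simp
    | succ j ih =>
      intro x
      rw [pow_succ, pow_succ, ← mulVec_mulVec, ← mulVec_mulVec, ← ih, sub_mulVec, sub_mulVec,
        one_mulVec, one_mulVec, map_sub, ← hA, su_smul_def]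
  exact ⟨N, ext_iff_mulVec.2 fun x => by rw [← E.apply_symm_apply x, this, hN]; simp⟩

theorem uni_su (hn : 3 ≤ n) (ho : Odd n) (h32 : ¬(n = 3 ∧ q = 2)) : ∃ u g h : SU n F q,
    (IsNilpotent (u.1.1 - 1) ∧ (u.1.1 - 1) ^ (n - 1) ≠ 0) ∧
      closure {u, g * u * g⁻¹, h * u * h⁻¹} = ⊤ := by
  by_cases h3 : n = 3
  · subst h3
    obtain ⟨u, g, h1, h2⟩ := uni_su_three (F := F) (q := q) (by omega)
    exact ⟨u, g, g, h1, by simpa⟩
  obtain ⟨m, rfl⟩ := ho
  obtain ⟨k, rfl⟩ : ∃ k, m = k + 1 := ⟨m - 1, by omega⟩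
  obtain ⟨ζ, hζ⟩ := exists_prim_unit (F := F)
  have q2 := two_le_q F (q := q)
  have z1 : (ζ : F) ^ q * ζ ^ q ≠ ζ * ζ := fun h => by
    have := dvd_of_pow hζ (m := 2 * (q - 1)) (mul_right_cancel₀ (b := (ζ : F) * ζ) (by simp) (by
      rw [one_mul]; nth_rw 2 [← h]; rw [← pow_two, ← pow_add, ← pow_add]; congr 1; omega))
    rw [hF.out, sq_sub_one_eq, Nat.mul_dvd_mul_iff_right (by omega)] at this
    have := Nat.le_of_dvd two_pos this
    omega
  have z2 : (ζ : F) ^ q ≠ ζ := fun h => z1 (by rw [h])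
  have z3 : (ζ : F) + ζ ^ q ≠ 0 := fun h => z1 (by linear_combination ((ζ : F) ^ q - ζ) * h)
  have key : ∀ β c : F, β + β ^ q ≠ 0 → (∀ {A : SU (2 * (k + 1) + 1) F q} {v H}, UFrame (k + 1) β A v →
      A ∈ H → uS q (v ((k + 1 : ℕ) - 1)) (v 0) β⁻¹ * A * (uS q (v ((k + 1 : ℕ) - 1)) (v 0) β⁻¹)⁻¹ ∈ H →
      uT q (v 0) c * A * (uT q (v 0) c)⁻¹ ∈ H → ∀ a, uS q (v 1) (v 0) a ∈ H) →
      ∃ u g h : SU (2 * (k + 1) + 1) F q, (IsNilpotent (u.1.1 - 1) ∧
        (u.1.1 - 1) ^ (2 * (k + 1) + 1 - 1) ≠ 0) ∧ closure {u, g * u * g⁻¹, h * u * h⁻¹} = ⊤ :=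
    fun β c hβ h => by
      obtain ⟨A, v, f, hN⟩ := exists_uframe k hβ
      have := f.reg (by omega) hβ
      refine ⟨A, uS q (v ((k + 1 : ℕ) - 1)) (v 0) β⁻¹, uT q (v 0) c, ⟨hN, fun e => this (by
        rw [Nat.add_sub_cancel] at e; simp [e])⟩, ?_⟩
      exact f.top (subset_closure (by simp)) (fun e => by simp [e, zero_pow_q] at hβ)
        (subset_closure (by simp)) (by omega) rfl hN this
        (h f (subset_closure (by simp)) (subset_closure (by simp)) (subset_closure (by simp)))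
  by_cases h2 : k = 1
  · have := sub_ne_zero.2 z2.symm
    have := sub_ne_zero.2 z2
    exact key ζ (ζ * ζ ^ q / (ζ - ζ ^ q)) z3 fun f hA hy ht => f.small hA ζ.ne_zero hy (by
      simp only [div_pow, mul_pow, sub_pow_q, pow_q_q]; field_simp; ring) ht (by omega) hζ (by omega)
      (by field_simp) z3
  obtain ⟨ε, ε0, hε⟩ := exists_trace_zero F q
  have hε : ε ^ q = -ε := by linear_combination hε
  exact key ((ζ / ε) ^ q) ε (by
    rw [pow_q_q, div_pow, hε, div_neg, neg_add_eq_sub, ← sub_div]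
    exact div_ne_zero (sub_ne_zero.2 z2.symm) ε0) fun f hA hy ht => f.big hA (by simp [ε0]) hy hε ht
      (by omega) hζ (by omega) (by rw [pow_q_q]; field_simp) z2

end Cfsg.Agent.Pres
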